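import Cfsg.Agent.H95.SubspaceStab

/-!
Subspace stabilisers in `SL_n`, for `n ≥ 3`.
-/

set_option autoImplicit false
open Cfsg

namespace Cfsg.Agent.H98.SmallLinear.Subspace


open scoped MatrixGroups Matrix
open Matrix Cfsg.Agent.H95

/-- Subspace stabilisers in `SL_n`, for `n ≥ 3`. -/
theorem maximal {F : Type*} [Field F] [Fintype F] (n : ℕ) (hn : 3 ≤ n) (W : Submodule F (Fin n → F)) (hW0 : W ≠ ⊥) (hW1 : W ≠ ⊤) : Cfsg.Geo.IsMaximalIn (Cfsg.Geo.specialLinear (Fin n) F) (Cfsg.Geo.subspaceStabilizer W ⊓ Cfsg.Geo.specialLinear (Fin n) F) := by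
  set SL := Geo.specialLinear (Fin n) F with hSL
  set S := Geo.subspaceStabilizer W ⊓ SL with hS
  obtain ⟨w₀, hw₀, hw₀0⟩ := W.ne_bot_iff.1 hW0
  obtain ⟨v₀, -, hv₀⟩ := SetLike.exists_of_lt (lt_top_iff_ne_top.2 hW1)
  refine ⟨lt_of_le_of_ne inf_le_right fun hEq => ?_, ?_⟩
  · obtain ⟨φ, hφw, hφ⟩ := exists_covec (Submodule.span F {v₀}) (v := w₀) (by
      rw [Submodule.mem_span_singleton]
      rintro ⟨c, rfl⟩
      exact hv₀ (by
        rcases eq_or_ne c 0 with rfl | hc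
        · simp at hw₀0
        · simpa [smul_smul, inv_mul_cancel₀ hc] using W.smul_mem c⁻¹ hw₀))
    have h0 : φ ⬝ᵥ v₀ = 0 := hφ v₀ (Submodule.mem_span_singleton_self v₀)
    have h : tv v₀ φ h0 ∈ S := hEq.symm ▸ tv_mem_specialLinear v₀ φ h0
    have h1 := (mem_subspaceStabilizer.1 h.1 w₀).1 hw₀
    rw [tv_mulVec, hφw, one_smul] at h1
    exact hv₀ (by simpa using W.sub_mem h1 hw₀)
  intro M hSM hMSL
  by_cases hMS : M ≤ S
  · exact Or.inl (le_antisymm hMS hSM)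
  right
  obtain ⟨g, hgM, hgS⟩ := SetLike.not_le_iff_exists.1 hMS
  -- the set of directions all of whose transvections lie in M
  set X : Set (Fin n → F) := {a | ∀ φ, φ ⬝ᵥ a = 0 → InTv M a φ} with hX
  have hXW : ∀ a ∈ W, a ∈ X := fun a ha φ h =>
    ⟨h, hSM ⟨tv_mem_stab_left h ha, tv_mem_specialLinear a φ h⟩⟩
  have hXg : ∀ h ∈ M, ∀ a ∈ X, (h : Matrix (Fin n) (Fin n) F) *ᵥ a ∈ X := by
    intro h hh a ha φ hφ
    have h1 := (ha (φ ᵥ* (h : Matrix (Fin n) (Fin n) F)) (by rwa [← dotProduct_mulVec])).conj hh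
    rwa [vecMul_vecMul, ← Units.val_mul, mul_inv_cancel, Units.val_one, vecMul_one] at h1
  have hXs : ∀ (c : F), ∀ a ∈ X, c • a ∈ X := by
    intro c a ha φ hφ
    rcases eq_or_ne c 0 with rfl | hc
    · rw [zero_smul]; exact inTv_zero_left M φ
    · rw [dotProduct_smul, smul_eq_mul, mul_eq_zero] at hφ
      have hφ' := hφ.resolve_left hc
      exact inTv_smul_left (ha _ (by simp [hφ'])) hφ'
  obtain ⟨b, hbW, hgb⟩ : ∃ b ∈ W, (g : Matrix (Fin n) (Fin n) F) *ᵥ b ∉ W := by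
    by_contra hcon
    push Not at hcon
    exact hgS ⟨mem_stab_of_forward hcon, hMSL hgM⟩
  set u := (g : Matrix (Fin n) (Fin n) F) *ᵥ b with hu
  have huX : u ∈ X := hXg g hgM b (hXW b hbW)
  refine le_antisymm hMSL (specialLinear_le fun a φ h0 => ?_)
  suffices a ∈ X from this φ h0
  have htrans : ∀ w ∈ W, u + w ∈ X := by
    intro w hw
    obtain ⟨ψ, hψu, hψ⟩ := exists_covec W hgb
    have h1 : tv w ψ (hψ w hw) ∈ M :=
      hSM ⟨tv_mem_stab_left _ hw, tv_mem_specialLinear _ _ _⟩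
    have h2 := hXg _ h1 u huX
    rwa [tv_mulVec, hψu, one_smul] at h2
  by_cases ha : a ∈ W ⊔ Submodule.span F {u}
  · obtain ⟨w, hw, z, hz, rfl⟩ := Submodule.mem_sup.1 ha
    obtain ⟨c, rfl⟩ := Submodule.mem_span_singleton.1 hz
    rcases eq_or_ne c 0 with rfl | hc
    · simpa using hXW w hw
    · have h2 := hXs c _ (htrans (c⁻¹ • w) (W.smul_mem _ hw))
      rwa [smul_add, smul_smul, mul_inv_cancel₀ hc, one_smul, add_comm] at h2
  · obtain ⟨ψ, hψu, hψ⟩ := exists_covec (W ⊔ Submodule.span F {a - u}) (v := u) (by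
      rw [Submodule.mem_sup]
      rintro ⟨w, hw, z, hz, e⟩
      obtain ⟨c, rfl⟩ := Submodule.mem_span_singleton.1 hz
      rcases eq_or_ne c 0 with rfl | hc
      · rw [zero_smul, add_zero] at e
        exact hgb (e ▸ hw)
      · apply ha
        have e2 : c • a = -w + (1 + c) • u := by
          rw [add_smul, one_smul]
          nth_rw 1 [← e]
          rw [smul_sub]; abel
        rw [Submodule.mem_sup]
        refine ⟨c⁻¹ • -w, W.smul_mem _ (W.neg_mem hw), (c⁻¹ * (1 + c)) • u,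
          Submodule.mem_span_singleton.2 ⟨_, rfl⟩, ?_⟩
        rw [mul_smul, ← smul_add, ← e2, smul_smul, inv_mul_cancel₀ hc, one_smul])
    have h0' : ψ ⬝ᵥ (a - u) = 0 :=
      hψ _ (Submodule.mem_sup_right (Submodule.mem_span_singleton_self _))
    have h1 : tv (a - u) ψ h0' ∈ M :=
      hSM ⟨tv_mem_stab_right _ fun w hw => hψ w (Submodule.mem_sup_left hw),
        tv_mem_specialLinear _ _ _⟩
    have h2 := hXg _ h1 u huX
    rwa [tv_mulVec, hψu, one_smul, add_sub_cancel] at h2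

end Cfsg.Agent.H98.SmallLinear.Subspace
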