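import Cfsg.Agent.H95.BlockMax

/-!
Decomposition stabilisers in `SL_n`, for `n ≥ 5`.
-/

set_option autoImplicit false
open Cfsg

namespace Cfsg.Agent.H98.SmallLinear.Decomp


open Cfsg.Agent.H95 Matrix

/-- Decomposition stabilisers in `SL_n`, for `n ≥ 5`. -/
theorem maximal {F : Type*} [Field F] [Fintype F] (n : ℕ) (hn : 5 ≤ n) {t : ℕ} (m : ℕ) (D : Fin t → Submodule F (Fin n → F)) (hD : Cfsg.Geo.IsMDecomposition m D) (h1 : ¬ (m = 1 ∧ Fintype.card F ≤ 4)) (h2 : ¬ (m = 2 ∧ Fintype.card F = 2)) : Cfsg.Geo.IsMaximalIn (Cfsg.Geo.specialLinear (Fin n) F) (Cfsg.Geo.decompositionStabilizer D ⊓ Cfsg.Geo.specialLinear (Fin n) F) := by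
  classical
  have ht := hD.two_le
  have hm := hD.pos
  have htm : n = t * m := by
    have h := Module.finrank_eq_card_basis (blockBasis D hD)
    rw [Module.finrank_fin_fun, Fintype.card_sigma] at h
    simpa using h
  have hstrict : ∀ (i j : Fin t), i ≠ j → ∃ g ∈ Geo.specialLinear (Fin n) F,
      g ∉ Geo.decompositionStabilizer D := by
    intro i j hij
    set a := blockBasis D hD ⟨i, ⟨0, hm⟩⟩
    set c := blockBasis D hD ⟨j, ⟨0, hm⟩⟩
    have ha : a ∈ D i := blockBasis_mem hD ⟨i, ⟨0, hm⟩⟩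
    have h0 : crdVec hD ⟨j, ⟨0, hm⟩⟩ ⬝ᵥ a = 0 := by
      rw [crdVec_dot, crd_basis, if_neg]
      intro e
      exact hij (congrArg Sigma.fst e)
    refine ⟨tv a _ h0, tv_mem_specialLinear _ _ _,
      not_mem_decompositionStabilizer hD (blockBasis_mem hD ⟨j, ⟨0, hm⟩⟩) hij
        (ja := ⟨0, hm⟩) (jb := ⟨0, hm⟩) ?_ ?_⟩
    · rw [tv_mulVec, crdVec_dot, crd_basis, if_pos rfl, one_smul, crd_add, crd_basis, crd_basis,
        if_neg (fun e => hij (congrArg Sigma.fst e).symm), if_pos rfl, zero_add]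
      exact one_ne_zero
    · rw [tv_mulVec, crdVec_dot, crd_basis, if_pos rfl, one_smul, crd_add, crd_basis, crd_basis,
        if_pos rfl, if_neg (fun e => hij (congrArg Sigma.fst e)), add_zero]
      exact one_ne_zero
  refine ⟨lt_of_le_of_ne inf_le_right ?_, fun M hSM hMSL => ?_⟩
  · intro hEq
    obtain ⟨g, hg, hgn⟩ := hstrict ⟨0, by omega⟩ ⟨1, by omega⟩ (by simp)
    rw [← hEq] at hg
    exact hgn hg.1
  by_cases hMS : M ≤ Geo.decompositionStabilizer D ⊓ Geo.specialLinear (Fin n) F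
  · exact Or.inl (le_antisymm hMS hSM)
  right
  obtain ⟨g, hgM, hgS⟩ := SetLike.not_le_iff_exists.1 hMS
  have hgD : g ∉ Geo.decompositionStabilizer D := fun h => hgS ⟨h, hMSL hgM⟩
  refine le_antisymm hMSL ?_
  rcases eq_or_ne m 1 with rfl | hm1
  · refine specialLinear_le_of_lines hD rfl ?_ (by rw [Fintype.card_fin]; omega) hSM hMSL hgM hgD
    have := Fintype.one_lt_card (α := F)
    omega
  refine specialLinear_le_of_blocks hD hSM (by omega) ?_ hgM hgD
  rcases Nat.lt_or_ge m 3 with h | h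
  · right
    have hm2 : m = 2 := by omega
    subst hm2
    refine ⟨by omega, ?_⟩
    have h3 : 3 ≤ Fintype.card F := by
      have := Fintype.one_lt_card (α := F)
      have : Fintype.card F ≠ 2 := fun e => h2 ⟨rfl, e⟩
      omega
    obtain ⟨x, -, hx⟩ := Finset.exists_mem_notMem_of_card_lt_card
      (s := ({0, 1} : Finset F)) (t := Finset.univ)
      (lt_of_le_of_lt Finset.card_le_two (by rw [Finset.card_univ]; omega))
    simp at hx
    exact ⟨Units.mk0 x hx.1, hx.2⟩
  · exact Or.inl h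

end Cfsg.Agent.H98.SmallLinear.Decomp
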