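import Cfsg.Agent.S5639

/-!
Subfield groups in `SL_n`, for `n ≥ 5`.
-/

set_option autoImplicit false
open Cfsg

namespace Cfsg.Agent.H98.SmallLinear.Subfield

open scoped MatrixGroups Matrix
open Matrix Cfsg.Agent.H95

/-- Subfield groups are maximal. -/
theorem maximal {F : Type*} [Field F] [Fintype F] (n : ℕ) (hn : 5 ≤ n) (F₀ : Subfield F) (r : ℕ) (hr : r.Prime) (hcard : Fintype.card F = Nat.card F₀ ^ r) (P : Matrix.GeneralLinearGroup (Fin n) F) : Cfsg.Geo.IsMaximalIn (Cfsg.Geo.specialLinear (Fin n) F) (Cfsg.Geo.subfieldSubgroup F₀ P ⊓ Cfsg.Geo.specialLinear (Fin n) F) := by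
  obtain ⟨hlt, hmax⟩ := Cfsg.Agent.S5639.standard (ι := Fin n) F₀ hr hcard (by rw [Fintype.card_fin]; omega)
  set SL := Geo.specialLinear (Fin n) F with hSL
  haveI : SL.Normal := by rw [hSL, Geo.specialLinear]; infer_instance
  set c : GL (Fin n) F ≃* GL (Fin n) F := MulAut.conj P with hc
  have hSLc : SL.map c.toMonoidHom = SL := by
    refine le_antisymm ?_ ?_
    · rintro _ ⟨x, hx, rfl⟩
      exact Subgroup.Normal.conj_mem inferInstance x hx P
    · intro x hx
      refine ⟨c.symm x, ?_, c.apply_symm_apply x⟩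
      show P⁻¹ * x * P ∈ SL
      simpa using Subgroup.Normal.conj_mem inferInstance x hx P⁻¹
  have hS : (baseGrp F₀ (Fin n) ⊓ SL).map c.toMonoidHom = Geo.subfieldSubgroup F₀ P ⊓ SL := by
    rw [Subgroup.map_inf _ _ _ c.injective, hSLc]
    rfl
  rw [← hS]
  conv => congr; rw [← hSLc]
  refine ⟨(Subgroup.map_lt_map_iff_of_injective c.injective).2 hlt, fun M h1 h2 => ?_⟩
  have h1' : baseGrp F₀ (Fin n) ⊓ SL ≤ M.comap c.toMonoidHom := Subgroup.map_le_iff_le_comap.1 h1
  have h2' : M.comap c.toMonoidHom ≤ SL := by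
    intro x hx
    obtain ⟨y, hy, hxy⟩ := h2 hx
    rwa [c.injective hxy] at hy
  have hM : (M.comap c.toMonoidHom).map c.toMonoidHom = M :=
    Subgroup.map_comap_eq_self_of_surjective c.surjective M
  rcases hmax _ h1' h2' with h | h
  · left; rw [← hM, h]
  · right; rw [← hM, h]

end Cfsg.Agent.H98.SmallLinear.Subfield
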